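import Cfsg.Agent.H257.OZ.SuzFacts
import Cfsg.Agent.H620.RIM.Nb
import Cfsg.Agent.H620.RIM.Mult
import Cfsg.Agent.H836.Sylow

/-!
# S4816: the row `Suz` at the primes 11 and 13 (helper714)

Twelve classes of `Suz` with `MGood 6` from the class list of helper123: orders 1, 5, 5, 7, 11, 13, 13, 15, 18, 18,
21, 21. An element whose centralizer in `Suz : 2` is the cyclic group it generates is not conjugate in `Suz` to its image
under the outer automorphism.
-/

set_option autoImplicit false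
set_option maxRecDepth 1000000
set_option exponentiation.threshold 5000

namespace Cfsg.Agent.H714.RIM.SuzRow

open Cfsg Cfsg.Spor Subgroup Cfsg.Agent.H123.Cls Cfsg.Agent.H123.Cls.SuzDat Cfsg.Agent.Lib.BitNet
open Cfsg.Agent.H763.Ore.SuzModel (A N A_conj card_A card_N N_le_A T_mem_A T_notMem)
open Cfsg.Agent.H763.Ore.SuzTab (A_le_Aut)
open Cfsg.Agent.OddHalf.Table.SuzRep (ψ ψ_val ψ_injective)
open Cfsg.Agent.OddHalf.Table.SuzGraph (T okT)
open Cfsg.Agent.SporadicRecognition.SuzOrder (el card_Suz)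
open Cfsg.Agent.H257.OZ.SuzF (fin card_inf pow_tab chkO lt_orderOf le_cent mem_D exists_tab cent_A_le chk16)
open Cfsg.Agent.H620.RIM Cfsg.Agent.H665.RIM
open Equiv (Perm)

universe u

/-- the invariants of an element -/
noncomputable def sg (g : Suz) : List ℕ := key.map (pwc row (ψ g))

theorem sg_conj {g h : Suz} (hc : IsConj g h) : sg g = sg h := by
  obtain ⟨c, hc⟩ := isConj_iff.1 hc
  unfold sg
  refine List.map_congr_left fun k _ => ?_
  rw [← hc, map_mul, map_mul, map_inv, pwc_conj (A_le_Aut (N_le_A ⟨c, rfl⟩))]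

theorem sg_D {x : ℕ × ℕ × List ℕ} (hx : x ∈ D) {g : Suz} (hg : ∀ p : Fin 1782, (ψ g p : ℕ) = lk 11 x.1 p) :
    sg g = x.2.2 :=
  sig_of_chk (by norm_num) hg (D_sg x hx) (D_len x hx)

theorem exists_tw (g : Suz) : ∃ h : Suz, ψ h = T * ψ g * T⁻¹ := by
  obtain ⟨h, hh⟩ := A_conj T_mem_A (⟨g, rfl⟩ : ψ g ∈ N)
  exact ⟨h, hh⟩

theorem sg_tw {g h : Suz} (hh : ψ h = T * ψ g * T⁻¹) : sg h = sg g := by
  unfold sg
  refine List.map_congr_left fun k _ => ?_
  rw [hh, pwc_conj (A_le_Aut T_mem_A)]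

theorem order_tw {g h : Suz} (hh : ψ h = T * ψ g * T⁻¹) : orderOf h = orderOf g := by
  rw [← orderOf_injective ψ ψ_injective h, ← orderOf_injective ψ ψ_injective g, hh, ← MulAut.conj_apply,
    MulEquiv.orderOf_eq]

theorem cent_tw_le {g h : Suz} (hh : ψ h = T * ψ g * T⁻¹) :
    Nat.card (centralizer ({h} : Set Suz)) ≤ Nat.card (centralizer ({g} : Set Suz)) := by
  have := fin
  have h0 : ∀ z : Suz, ∃ w : Suz, ψ w = T⁻¹ * ψ z * T := by
    intro z
    obtain ⟨w, hw⟩ := A_conj (A.inv_mem T_mem_A) (⟨z, rfl⟩ : ψ z ∈ N)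
    exact ⟨w, by rw [hw, inv_inv]⟩
  choose f hf using h0
  refine Nat.card_le_card_of_injective (fun z : centralizer ({h} : Set Suz) =>
    (⟨f z, ?_⟩ : centralizer ({g} : Set Suz))) ?_
  · rw [mem_centralizer_singleton_iff]
    refine ψ_injective ?_
    have h1 := congrArg ψ (mem_centralizer_singleton_iff.1 z.2)
    rw [map_mul, map_mul, hh] at h1
    rw [map_mul, map_mul, hf]
    calc T⁻¹ * ψ z * T * ψ g = T⁻¹ * (ψ z * (T * ψ g * T⁻¹)) * T := by group
      _ = T⁻¹ * (T * ψ g * T⁻¹ * ψ z) * T := by rw [h1]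
      _ = ψ g * (T⁻¹ * ψ z * T) := by group
  · intro a b hab
    have h1 : f a = f b := congrArg Subtype.val hab
    have h2 := congrArg ψ h1
    rw [hf, hf] at h2
    exact Subtype.ext (ψ_injective (mul_left_cancel (mul_right_cancel h2)))

theorem tw_not_conj {x : ℕ × ℕ × List ℕ} (hx : x ∈ D) {g h : Suz} (hg : ∀ p : Fin 1782, (ψ g p : ℕ) = lk 11 x.1 p)
    (hh : ψ h = T * ψ g * T⁻¹) (ho : orderOf g = x.2.1 + 1) : ¬ IsConj g h := by
  intro hc
  obtain ⟨c, hc⟩ := isConj_iff.1 hc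
  have h1 : ψ c * ψ g * (ψ c)⁻¹ = T * ψ g * T⁻¹ := by rw [← hh, ← hc, map_mul, map_mul, map_inv]
  have hcN : ψ c ∈ N := ⟨c, rfl⟩
  have ha : (ψ c)⁻¹ * T ∈ A ⊓ centralizer {ψ g} := by
    refine mem_inf.2 ⟨A.mul_mem (A.inv_mem (N_le_A hcN)) T_mem_A, ?_⟩
    rw [mem_centralizer_singleton_iff]
    calc (ψ c)⁻¹ * T * ψ g = (ψ c)⁻¹ * (T * ψ g * T⁻¹) * T := by group
      _ = (ψ c)⁻¹ * (ψ c * ψ g * (ψ c)⁻¹) * T := by rw [h1]
      _ = ψ g * ((ψ c)⁻¹ * T) := by group
  have hz : zpowers (ψ g) = A ⊓ centralizer {ψ g} := by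
    have hle : zpowers (ψ g) ≤ A ⊓ centralizer {ψ g} := by
      rw [zpowers_le]
      exact mem_inf.2 ⟨N_le_A ⟨g, rfl⟩, mem_centralizer_singleton_iff.2 rfl⟩
    refine eq_of_le_of_card_ge hle ?_
    rw [Nat.card_zpowers, orderOf_injective ψ ψ_injective g, ho]
    exact cent_A_le hx hg
  rw [← hz] at ha
  have h2 : zpowers (ψ g) ≤ N := by rw [zpowers_le]; exact ⟨g, rfl⟩
  have h3 := h2 ha
  rw [N.mul_mem_cancel_left (N.inv_mem hcN)] at h3
  exact T_notMem h3

theorem order_dvd {P k : ℕ} {g : Suz} (hg : ∀ p : Fin 1782, (ψ g p : ℕ) = lk 11 P p)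
    (h : allN (fun p => Nat.beq (it 11 P k p) p) 1782 = true) : orderOf g ∣ k := by
  refine orderOf_dvd_of_pow_eq_one (ψ_injective ?_)
  rw [map_pow, map_one]
  ext p
  rw [pow_tab hg]
  exact Nat.eq_of_beq_eq_true ((allN_iff _ _).1 h p p.2)

theorem lt_order {P m : ℕ} {g : Suz} (hg : ∀ p : Fin 1782, (ψ g p : ℕ) = lk 11 P p) (p : Fin 1782)
    (h : chkO P p m = true) : m < orderOf g := by
  rw [← orderOf_injective ψ ψ_injective g]
  exact lt_orderOf hg p h

theorem cent_le {x : ℕ × ℕ × List ℕ} (hx : x ∈ D) {g : Suz} (hg : ∀ p : Fin 1782, (ψ g p : ℕ) = lk 11 x.1 p) :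
    Nat.card (centralizer ({g} : Set Suz)) ≤ x.2.1 + 1 := by
  have := fin
  rw [← card_inf]
  exact (card_le_of_le (inf_le_inf_right _ N_le_A)).trans (cent_A_le hx hg)

theorem d1 : allN (fun p => Nat.beq (it 11 p1 1 p) p) 1782 = true := by decide +kernel
theorem d34 : allN (fun p => Nat.beq (it 11 p34 5 p) p) 1782 = true := by decide +kernel
theorem d14 : allN (fun p => Nat.beq (it 11 p14 5 p) p) 1782 = true := by decide +kernel
theorem d29 : allN (fun p => Nat.beq (it 11 p29 7 p) p) 1782 = true := by decide +kernel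
theorem d9 : allN (fun p => Nat.beq (it 11 p9 11 p) p) 1782 = true := by decide +kernel
theorem d13 : allN (fun p => Nat.beq (it 11 p13 15 p) p) 1782 = true := by decide +kernel
theorem d16 : allN (fun p => Nat.beq (it 11 p16 13 p) p) 1782 = true := by decide +kernel
theorem d17 : allN (fun p => Nat.beq (it 11 p17 21 p) p) 1782 = true := by decide +kernel
theorem d21 : allN (fun p => Nat.beq (it 11 p21 18 p) p) 1782 = true := by decide +kernel

theorem m1 : (p1, 896690995199, [0, 1782, 0, 1782, 0, 1782, 1782]) ∈ D := mem_D (y := 1) rfl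
theorem m9 : (p9, 21, [396, 0, 396, 0, 396, 0, 0]) ∈ D := mem_D (y := 9) rfl
theorem m13 : (p13, 29, [400, 2, 400, 2, 400, 2, 162]) ∈ D := mem_D (y := 13) rfl
theorem m14 : (p14, 599, [400, 2, 400, 2, 400, 2, 1782]) ∈ D := mem_D (y := 14) rfl
theorem m16 : (p16, 12, [416, 1, 416, 1, 416, 1, 1]) ∈ D := mem_D (y := 16) rfl
theorem m17 : (p17, 20, [416, 1, 416, 1, 476, 4, 1]) ∈ D := mem_D (y := 17) rfl
theorem m21 : (p21, 17, [432, 0, 432, 0, 540, 0, 0]) ∈ D := mem_D (y := 21) rfl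
theorem m29 : (p29, 167, [476, 4, 476, 4, 476, 4, 4]) ∈ D := mem_D (y := 29) rfl
theorem m34 : (p34, 3599, [600, 12, 600, 12, 600, 12, 1782]) ∈ D := mem_D (y := 34) rfl

/-- a table with the order not divisible by 2 and 3 -/
theorem good_of_dvd {k : ℕ} {g : Suz} (h : orderOf g ∣ k) (hk : k.Coprime 6) : MGood 6 g :=
  mGood_of_coprime (Nat.Coprime.coprime_dvd_left h hk)

theorem c13 : chkO p13 4 5 = true := by decide +kernel
theorem c17 : chkO p17 14 7 = true := by decide +kernel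
theorem c21 : chkO p21 0 9 = true := by decide +kernel

theorem order_of_dvd {n m k : ℕ} (h : n ∣ k) (hk : 0 < k) (hlt : m < n) (hd : ∀ d ∈ k.divisors, m < d → d = k) :
    n = k :=
  hd n (Nat.mem_divisors.2 ⟨h, hk.ne'⟩) hlt

/-- **Twelve classes of `Suz` with `MGood 6`.** -/
theorem twelve : ∃ L : List Suz, L.length = 12 ∧ (L.Pairwise fun a b => ¬ IsConj a b) ∧ ∀ g ∈ L, MGood 6 g := by
  have := fin
  obtain ⟨g1, h1⟩ := exists_tab m1
  obtain ⟨g9, h9⟩ := exists_tab m9
  obtain ⟨g13, h13⟩ := exists_tab m13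
  obtain ⟨g14, h14⟩ := exists_tab m14
  obtain ⟨g16, h16⟩ := exists_tab m16
  obtain ⟨g17, h17⟩ := exists_tab m17
  obtain ⟨g21, h21⟩ := exists_tab m21
  obtain ⟨g29, h29⟩ := exists_tab m29
  obtain ⟨g34, h34⟩ := exists_tab m34
  obtain ⟨t16, k16⟩ := exists_tw g16
  obtain ⟨t17, k17⟩ := exists_tw g17
  obtain ⟨t21, k21⟩ := exists_tw g21
  -- orders
  have o16 : orderOf g16 = 13 := order_of_dvd (m := 12) (order_dvd h16 d16) (by norm_num)
    (lt_order h16 1 chk16) (by decide)
  have o17 : orderOf g17 = 21 := order_of_dvd (m := 7) (order_dvd h17 d17) (by norm_num)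
    (lt_order h17 14 c17) (by decide)
  have o21 : orderOf g21 = 18 := order_of_dvd (m := 9) (order_dvd h21 d21) (by norm_num)
    (lt_order h21 0 c21) (by decide)
  have o13 : orderOf g13 = 15 := order_of_dvd (m := 5) (order_dvd h13 d13) (by norm_num)
    (lt_order h13 4 c13) (by decide)
  -- the conjugates under the outer automorphism
  have n16 := tw_not_conj m16 h16 k16 o16
  have n17 := tw_not_conj m17 h17 k17 o17
  have n21 := tw_not_conj m21 h21 k21 o21
  -- the invariants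
  have s1 := sg_D m1 h1
  have s9 := sg_D m9 h9
  have s13 := sg_D m13 h13
  have s14 := sg_D m14 h14
  have s16 := sg_D m16 h16
  have s17 := sg_D m17 h17
  have s21 := sg_D m21 h21
  have s29 := sg_D m29 h29
  have s34 := sg_D m34 h34
  have u16 := (sg_tw k16).trans s16
  have u17 := (sg_tw k17).trans s17
  have u21 := (sg_tw k21).trans s21
  have key : ∀ {a b : Suz} {s t : List ℕ}, sg a = s → sg b = t → s ≠ t → ¬ IsConj a b := by
    intro a b s t ha hb hst hc
    exact hst (ha ▸ hb ▸ sg_conj hc)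
  have good_self : ∀ {g : Suz}, Nat.card (centralizer ({g} : Set Suz)) ≤ orderOf g → MGood 6 g := by
    intro g hg
    exact mGood_of_self (orderOf_pos g).ne' (le_antisymm hg (le_cent g))
  refine ⟨[g1, g34, g14, g29, g9, g13, g16, g17, g21, t16, t17, t21], rfl, ?_, ?_⟩
  · simp only [List.pairwise_cons, List.mem_cons, List.not_mem_nil, or_false, forall_eq_or_imp, forall_eq,
      List.Pairwise.nil, and_true, IsEmpty.forall_iff, implies_true]
    refine ⟨⟨?_, ?_, ?_, ?_, ?_, ?_, ?_, ?_, ?_, ?_, ?_⟩, ⟨?_, ?_, ?_, ?_, ?_, ?_, ?_, ?_, ?_, ?_⟩,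
      ⟨?_, ?_, ?_, ?_, ?_, ?_, ?_, ?_, ?_⟩, ⟨?_, ?_, ?_, ?_, ?_, ?_, ?_, ?_⟩, ⟨?_, ?_, ?_, ?_, ?_, ?_, ?_⟩,
      ⟨?_, ?_, ?_, ?_, ?_, ?_⟩, ⟨?_, ?_, ?_, ?_, ?_⟩, ⟨?_, ?_, ?_, ?_⟩, ⟨?_, ?_, ?_⟩, ⟨?_, ?_⟩, ?_⟩
    all_goals first
      | exact n16
      | exact n17
      | exact n21
      | exact key (by assumption) (by assumption) (by decide)
  · intro g hg
    simp only [List.mem_cons, List.not_mem_nil, or_false] at hg
    rcases hg with rfl | rfl | rfl | rfl | rfl | rfl | rfl | rfl | rfl | rfl | rfl | rfl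
    · exact good_of_dvd (order_dvd h1 d1) (by decide)
    · exact good_of_dvd (order_dvd h34 d34) (by decide)
    · exact good_of_dvd (order_dvd h14 d14) (by decide)
    · exact good_of_dvd (order_dvd h29 d29) (by decide)
    · exact good_of_dvd (order_dvd h9 d9) (by decide)
    · -- order 15
      have h2 : Nat.card (centralizer ({g} : Set Suz)) ≤ 30 := cent_le m13 h13
      have h3 := le_cent g
      rw [o13] at h3
      intro r hr hr6
      have h4 : r ≤ 6 := Nat.le_of_dvd (by norm_num) hr6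
      have h5 : r = 2 ∨ r = 3 := by
        interval_cases r
        · exact absurd hr (by norm_num)
        · exact absurd hr (by norm_num)
        · exact Or.inl rfl
        · exact Or.inr rfl
        · exact absurd hr (by norm_num)
        · exact absurd hr6 (by norm_num)
        · exact absurd hr (by norm_num)
      rcases h5 with rfl | rfl
      · left
        rw [o13]
        norm_num
      · right
        rw [o13]
        intro h6
        have h7 : Nat.card (centralizer ({g} : Set Suz)) / 15 ≤ 30 / 15 := Nat.div_le_div_right h2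
        have h8 : 1 ≤ Nat.card (centralizer ({g} : Set Suz)) / 15 := (Nat.one_le_div_iff (by norm_num)).2 h3
        have h9 := Nat.le_of_dvd h8 h6
        omega
    · exact good_of_dvd (order_dvd h16 d16) (by decide)
    · exact good_self (by rw [o17]; exact cent_le m17 h17)
    · exact good_self (by rw [o21]; exact cent_le m21 h21)
    · exact good_self ((cent_tw_le k16).trans (by rw [order_tw k16, o16]; exact cent_le m16 h16))
    · exact good_self ((cent_tw_le k17).trans (by rw [order_tw k17, o17]; exact cent_le m17 h17))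
    · exact good_self ((cent_tw_le k21).trans (by rw [order_tw k21, o21]; exact cent_le m21 h21))

/-- the classes of an isomorphic group -/
theorem exists_classes {K : Type u} [Group K] (e : Suz ≃* K) {m : ℕ} (hm : m ∣ 6) :
    ∃ F : Finset (ConjClasses K), F.card = 12 ∧ ∀ C ∈ F, ∃ g : K, ConjClasses.mk g = C ∧ MGood m g := by
  obtain ⟨L, h1, h2, h3⟩ := twelve
  have h5 : (L.map e).Pairwise fun a b => ¬ IsConj a b := by
    rw [List.pairwise_map]
    refine h2.imp fun {a b} hab hc => hab ?_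
    obtain ⟨c, hc⟩ := isConj_iff.1 hc
    refine isConj_iff.2 ⟨e.symm c, e.injective ?_⟩
    rw [map_mul, map_mul, map_inv, e.apply_symm_apply, hc]
  have h6 : ∀ g ∈ L.map e, MGood m g := by
    intro g hg
    obtain ⟨a, ha, rfl⟩ := List.mem_map.1 hg
    have h4 := (h3 a ha).mulEquiv e
    exact fun r hr hrm => h4 r hr (hrm.trans hm)
  obtain ⟨F, hF, hF2⟩ := exists_finset (MGood m) (L.map e) h5 h6
  exact ⟨F, by rw [hF, List.length_map, h1], hF2⟩

theorem card_of {K : Type u} [Group K] (e : Suz ≃* K) : Nat.card K = 448345497600 := by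
  rw [← Nat.card_congr e.toEquiv, card_Suz]

/-- the order of the normalizer -/
theorem exists_norm {K : Type u} [Group K] [Finite K] {p : ℕ} (hp : p.Prime) (hsq : ¬ p ^ 2 ∣ Nat.card K) {y : K}
    (hy : orderOf y = p) (hC : Nat.card (centralizer ({y} : Set K)) = p) :
    ∃ n k, n % p = 1 ∧ k ∣ p - 1 ∧ Nat.card K = p * k * n ∧
      Nat.card (normalizer ((zpowers y : Subgroup K) : Set K)) = k * p := by
  have hX : Nat.card (zpowers y) = p := by rw [Nat.card_zpowers, hy]
  obtain ⟨n, k, h1, h2, h3, h4⟩ := Cfsg.Agent.H836.Sylow.card_normalizer hp hsq hX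
  have h5 : centralizer ((zpowers y : Subgroup K) : Set K) = centralizer {y} := by
    rw [zpowers_eq_closure, centralizer_closure]
  rw [h5, hC] at h3 h4
  exact ⟨n, k, h1, h2, h3, by rw [h4, mul_comm]⟩

theorem cent_of {K : Type u} [Group K] (e : Suz ≃* K) {y : Suz} {c : ℕ}
    (h : Nat.card (centralizer ({y} : Set Suz)) = c) : Nat.card (centralizer ({e y} : Set K)) = c := by
  rw [card_centralizer_congr e y, h]

/-- **(Suz, 11)** -/
theorem nball_eleven {K : Type u} [Group K] [Finite K] (h : Spor.IsoSuz K) : NBall.{u} 11 K := by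
  refine nball_of_mdvd (dvd_suz h) fun m hm hm2 hpm => ?_
  obtain ⟨e⟩ := h
  obtain ⟨y, hy, hC⟩ := Cfsg.Agent.H257.OZ.SuzF.eleven
  have hy' : orderOf (e.symm y) = 11 := by
    rw [← hy]; exact orderOf_injective e.symm.toMonoidHom e.symm.injective y
  have hcard := card_of e.symm
  have hsq : ¬ 11 ^ 2 ∣ Nat.card K := by rw [hcard]; norm_num
  have hC' := cent_of e.symm hC
  obtain ⟨n, k, h1, h2, h3, h4⟩ := exists_norm (by norm_num) hsq hy' hC'
  obtain ⟨F, hF, hF2⟩ := exists_classes e.symm hm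
  refine nb_of_dz_self (by norm_num) hpm hsq hy' hC' h4 F hF2 ?_
  rw [hF]
  have h5 : k ≤ 10 := Nat.le_of_dvd (by norm_num) h2
  have h6 : 0 < k := Nat.pos_of_dvd_of_pos h2 (by norm_num)
  interval_cases k <;> norm_num

/-- **(Suz, 13)** -/
theorem nball_thirteen {K : Type u} [Group K] [Finite K] (h : Spor.IsoSuz K) : NBall.{u} 13 K := by
  refine nball_of_mdvd (dvd_suz h) fun m hm hm2 hpm => ?_
  obtain ⟨e⟩ := h
  obtain ⟨y, hy, hC⟩ := Cfsg.Agent.H257.OZ.SuzF.thirteen
  have hy' : orderOf (e.symm y) = 13 := by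
    rw [← hy]; exact orderOf_injective e.symm.toMonoidHom e.symm.injective y
  have hcard := card_of e.symm
  have hsq : ¬ 13 ^ 2 ∣ Nat.card K := by rw [hcard]; norm_num
  have hC' := cent_of e.symm hC
  obtain ⟨n, k, h1, h2, h3, h4⟩ := exists_norm (by norm_num) hsq hy' hC'
  obtain ⟨F, hF, hF2⟩ := exists_classes e.symm hm
  refine nb_of_dz_self (by norm_num) hpm hsq hy' hC' h4 F hF2 ?_
  rw [hF]
  rw [hcard] at h3
  have h5 : k ≤ 12 := Nat.le_of_dvd (by norm_num) h2
  have h6 : 0 < k := Nat.pos_of_dvd_of_pos h2 (by norm_num)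
  have h7 : k = 6 := by interval_cases k <;> omega
  rw [h7]
  norm_num

end Cfsg.Agent.H714.RIM.SuzRow
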