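import Cfsg.Agent.H714.RIM.Suz

/-!
# S4816: the number of characters over a faithful character of the kernel, `Suz` (helper714)

* `rep i`, `i < 37` : the representatives of helper123's class list; `tw j`, `j < 3` : the outer twins of 16, 17, 21;
* `cl_inj` : these 40 elements are pairwise not conjugate;
* `le_of_finset` : good classes of the cover give characters;
* `count` : the numbers 28, 34, 26 for kernels of order 2, 3, 6, given the goodness of 14 of the classes (traces).
-/

set_option autoImplicit false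
set_option maxRecDepth 1000000
set_option exponentiation.threshold 5000

namespace Cfsg.Agent.H714.RIM.SuzCount

open Cfsg Cfsg.Spor Subgroup Cfsg.Agent.H123.Cls Cfsg.Agent.H123.Cls.SuzDat Cfsg.Agent.Lib.BitNet
open Cfsg.Agent.OddHalf.Table.SuzRep (ψ ψ_val ψ_injective)
open Cfsg.Agent.OddHalf.Table.SuzGraph (T okT)
open Cfsg.Agent.SporadicRecognition.SuzOrder (el card_Suz)
open Cfsg.Agent.H257.OZ.SuzF (fin exists_tab le_cent chk16)
open Cfsg.Agent.H620.RIM Cfsg.Agent.H714.RIM.SuzRow Cfsg.Agent.H622.Over Cfsg.Agent.H849.RIM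
open Equiv (Perm)

universe u

/-! ### the elements -/

theorem D_length : D.length = 37 := rfl

/-- the entry of the list -/
noncomputable def dat (i : Fin 37) : ℕ × ℕ × List ℕ := D.get (i.cast D_length.symm)

theorem dat_mem (i : Fin 37) : dat i ∈ D := List.get_mem _ _

theorem dat_inj {i j : Fin 37} (h : (dat i).2.2 = (dat j).2.2) : i = j := by
  have h1 := D_nodup
  rw [List.nodup_iff_injective_get] at h1
  have h2 : (i.cast (by rw [List.length_map, D_length]) : Fin (D.map fun x => x.2.2).length) =
      j.cast (by rw [List.length_map, D_length]) := by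
    apply h1
    rw [List.get_eq_getElem, List.get_eq_getElem, List.getElem_map, List.getElem_map]
    exact h
  exact Fin.ext (congrArg Fin.val h2)

/-- the representative -/
noncomputable def rep (i : Fin 37) : Suz := (exists_tab (dat_mem i)).choose

theorem rep_tab (i : Fin 37) (p : Fin 1782) : (ψ (rep i) p : ℕ) = lk 11 (dat i).1 p :=
  (exists_tab (dat_mem i)).choose_spec p

theorem sg_rep (i : Fin 37) : sg (rep i) = (dat i).2.2 := sg_D (dat_mem i) (rep_tab i)

/-- an element with the table `p_i` is the representative -/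
theorem eq_rep {i : Fin 37} {g : Suz} (h : ∀ p : Fin 1782, (ψ g p : ℕ) = lk 11 (dat i).1 p) : g = rep i := by
  refine ψ_injective (Equiv.ext fun p => Fin.ext ?_)
  rw [h, rep_tab]

/-- the classes which split -/
def tI : Fin 3 → Fin 37 := ![16, 17, 21]

/-- the outer twin -/
noncomputable def tw (j : Fin 3) : Suz := (exists_tw (rep (tI j))).choose

theorem tw_spec (j : Fin 3) : ψ (tw j) = T * ψ (rep (tI j)) * T⁻¹ := (exists_tw (rep (tI j))).choose_spec

theorem o16 : orderOf (rep 16) = 13 := order_of_dvd (m := 12) (order_dvd (rep_tab 16) d16) (by norm_num)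
  (lt_order (rep_tab 16) 1 chk16) (by decide)
theorem o17 : orderOf (rep 17) = 21 := order_of_dvd (m := 7) (order_dvd (rep_tab 17) d17) (by norm_num)
  (lt_order (rep_tab 17) 14 c17) (by decide)
theorem o21 : orderOf (rep 21) = 18 := order_of_dvd (m := 9) (order_dvd (rep_tab 21) d21) (by norm_num)
  (lt_order (rep_tab 21) 0 c21) (by decide)

theorem otI : ∀ j : Fin 3, orderOf (rep (tI j)) = (dat (tI j)).2.1 + 1
  | 0 => o16
  | 1 => o17
  | 2 => o21

theorem tw_not (j : Fin 3) : ¬ IsConj (rep (tI j)) (tw j) :=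
  tw_not_conj (dat_mem (tI j)) (rep_tab (tI j)) (tw_spec j) (otI j)

/-- the forty elements -/
noncomputable def cl : Fin 37 ⊕ Fin 3 → Suz := Sum.elim rep tw

theorem cl_inj : ∀ a b : Fin 37 ⊕ Fin 3, IsConj (cl a) (cl b) → a = b := by
  have h1 : ∀ (i : Fin 37) (j : Fin 3), IsConj (rep i) (tw j) → False := by
    intro i j h
    have h2 := sg_conj h
    rw [sg_tw (tw_spec j), sg_rep, sg_rep] at h2
    have h3 := dat_inj h2
    rw [h3] at h
    exact tw_not j h
  rintro (i | j) (i' | j') h
  · have h2 := sg_conj h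
    change sg (rep i) = sg (rep i') at h2
    rw [sg_rep, sg_rep] at h2
    rw [dat_inj h2]
  · exact (h1 i j' h).elim
  · exact (h1 i' j h.symm).elim
  · have h2 := sg_conj h
    change sg (tw j) = sg (tw j') at h2
    rw [sg_tw (tw_spec j), sg_tw (tw_spec j'), sg_rep, sg_rep] at h2
    have h3 := dat_inj h2
    have h4 : Function.Injective tI := by decide
    rw [h4 h3]

/-! ### the covers -/

section

variable {K : Type u} [Group K] {E : Type u} [Group E] [Finite E] (π : E →* K) (e : K ≃* Suz) (l : π.ker →* ℂˣ)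

/-- the elements of the cover over `g` are good -/
def SGood (g : Suz) : Prop := ∀ x : E, e (π x) = g → Good π.ker l x

variable {π e l}

theorem le_of_finset (hπ : Function.Surjective π) (hker : π.ker ≤ center E) (S : Finset (Fin 37 ⊕ Fin 3))
    (hS : ∀ a ∈ S, SGood π e l (cl a)) :
    S.card ≤ Nat.card {χ : IrrCharacter E // Lies π.ker l (χ : E → ℂ)} := by
  classical
  rw [card_over hker l, card_good hker l]
  have hsurj : ∀ a : Fin 37 ⊕ Fin 3, ∃ x : E, e (π x) = cl a := by
    intro a
    obtain ⟨x, hx⟩ := hπ (e.symm (cl a))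
    exact ⟨x, by rw [hx, e.apply_symm_apply]⟩
  choose x hx using hsurj
  have h1 : Finite (ConjClasses (E ⧸ π.ker)) :=
    Finite.of_surjective _ (ConjClasses.mk_surjective (α := E ⧸ π.ker))
  have h2 : Finite {C : ConjClasses (E ⧸ π.ker) // ∃ g : E, ConjClasses.mk (g : E ⧸ π.ker) = C ∧ Good π.ker l g} :=
    inferInstance
  rw [← Fintype.card_coe, ← Nat.card_eq_fintype_card]
  refine Nat.card_le_card_of_injective (fun a : S =>
    (⟨ConjClasses.mk ((x a : E) : E ⧸ π.ker), x a, rfl, hS a a.2 _ (hx a)⟩ :
      {C : ConjClasses (E ⧸ π.ker) // ∃ g : E, ConjClasses.mk (g : E ⧸ π.ker) = C ∧ Good π.ker l g})) ?_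
  intro a b hab
  have h3 := ConjClasses.mk_eq_mk_iff_isConj.1 (congrArg Subtype.val hab)
  obtain ⟨c, hc⟩ := isConj_iff.1 h3
  obtain ⟨c, rfl⟩ := QuotientGroup.mk_surjective c
  have h4 := congrArg (QuotientGroup.kerLift π) hc
  rw [map_mul, map_mul, map_inv] at h4
  change π c * π (x a) * (π c)⁻¹ = π (x b) at h4
  apply Subtype.ext
  apply cl_inj
  rw [← hx, ← hx, ← h4, map_mul, map_mul, map_inv]
  exact isConj_iff.2 ⟨e (π c), rfl⟩

/-- goodness from orders -/
theorem sGood_of_mGood (hπ : Function.Surjective π) (hker : π.ker ≤ center E) {g : Suz}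
    (h : MGood (Nat.card π.ker) g) : SGood π e l g := by
  intro x hx
  refine good_of_mGood hker l ?_
  let f : E ⧸ π.ker ≃* Suz := (QuotientGroup.quotientKerEquivOfSurjective π hπ).trans e
  have h1 : f (x : E ⧸ π.ker) = g := hx
  have h2 := h.mulEquiv f.symm
  rwa [← h1, f.symm_apply_apply] at h2

end

/-! ### goodness by orders -/

theorem good_of_dvd_m {m k : ℕ} {g : Suz} (h : orderOf g ∣ k) (hk : k.Coprime m) : MGood m g :=
  mGood_of_coprime (Nat.Coprime.coprime_dvd_left h hk)

theorem good_self {m : ℕ} {g : Suz} (hg : Nat.card (centralizer ({g} : Set Suz)) ≤ orderOf g) : MGood m g := by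
  have := fin
  exact mGood_of_self (orderOf_pos g).ne' (le_antisymm hg (le_cent g))

theorem c16 : (dat 16).2.1 + 1 = 13 := rfl
theorem c17' : (dat 17).2.1 + 1 = 21 := rfl
theorem c21' : (dat 21).2.1 + 1 = 18 := rfl

theorem l16 : Nat.card (centralizer ({rep 16} : Set Suz)) ≤ orderOf (rep 16) := by
  rw [o16, ← c16]; exact cent_le (dat_mem 16) (rep_tab 16)
theorem l17 : Nat.card (centralizer ({rep 17} : Set Suz)) ≤ orderOf (rep 17) := by
  rw [o17, ← c17']; exact cent_le (dat_mem 17) (rep_tab 17)
theorem l21 : Nat.card (centralizer ({rep 21} : Set Suz)) ≤ orderOf (rep 21) := by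
  rw [o21, ← c21']; exact cent_le (dat_mem 21) (rep_tab 21)

theorem ltI : ∀ j : Fin 3, Nat.card (centralizer ({rep (tI j)} : Set Suz)) ≤ orderOf (rep (tI j))
  | 0 => l16
  | 1 => l17
  | 2 => l21

theorem good_tw (m : ℕ) (j : Fin 3) : MGood m (tw j) := by
  refine good_self ((cent_tw_le (tw_spec j)).trans ?_)
  rw [order_tw (tw_spec j)]
  exact ltI j

theorem good16 (m : ℕ) : MGood m (rep 16) := good_self l16
theorem good17 (m : ℕ) : MGood m (rep 17) := good_self l17
theorem good21 (m : ℕ) : MGood m (rep 21) := good_self l21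

theorem e2 : allN (fun p => Nat.beq (it 11 p2 4 p) p) 1782 = true := by decide +kernel
theorem e4 : allN (fun p => Nat.beq (it 11 p4 3 p) p) 1782 = true := by decide +kernel
theorem e6 : allN (fun p => Nat.beq (it 11 p6 3 p) p) 1782 = true := by decide +kernel
theorem e10 : allN (fun p => Nat.beq (it 11 p10 14 p) p) 1782 = true := by decide +kernel
theorem e12 : allN (fun p => Nat.beq (it 11 p12 10 p) p) 1782 = true := by decide +kernel
theorem e18 : allN (fun p => Nat.beq (it 11 p18 15 p) p) 1782 = true := by decide +kernel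
theorem e20 : allN (fun p => Nat.beq (it 11 p20 9 p) p) 1782 = true := by decide +kernel
theorem e22 : allN (fun p => Nat.beq (it 11 p22 4 p) p) 1782 = true := by decide +kernel
theorem e23 : allN (fun p => Nat.beq (it 11 p23 8 p) p) 1782 = true := by decide +kernel
theorem e30 : allN (fun p => Nat.beq (it 11 p30 8 p) p) 1782 = true := by decide +kernel
theorem e31 : allN (fun p => Nat.beq (it 11 p31 2 p) p) 1782 = true := by decide +kernel
theorem e33 : allN (fun p => Nat.beq (it 11 p33 4 p) p) 1782 = true := by decide +kernel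
theorem e36 : allN (fun p => Nat.beq (it 11 p36 3 p) p) 1782 = true := by decide +kernel
theorem e0 : allN (fun p => Nat.beq (it 11 p0 2 p) p) 1782 = true := by decide +kernel
theorem e5 : allN (fun p => Nat.beq (it 11 p5 20 p) p) 1782 = true := by decide +kernel
theorem e11 : allN (fun p => Nat.beq (it 11 p11 8 p) p) 1782 = true := by decide +kernel
theorem e25 : allN (fun p => Nat.beq (it 11 p25 10 p) p) 1782 = true := by decide +kernel
theorem e35 : allN (fun p => Nat.beq (it 11 p35 4 p) p) 1782 = true := by decide +kernel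

/-- order 15 with centralizer of order 15 or 30 -/
theorem good13 : MGood 6 (rep 13) := by
  have := fin
  have o13 : orderOf (rep 13) = 15 := order_of_dvd (m := 5) (order_dvd (rep_tab 13) d13) (by norm_num)
    (lt_order (rep_tab 13) 4 c13) (by decide)
  have h2 : Nat.card (centralizer ({rep 13} : Set Suz)) ≤ 30 := by
    rw [← show (dat 13).2.1 + 1 = 30 from rfl]; exact cent_le (dat_mem 13) (rep_tab 13)
  have h3 := le_cent (rep 13)
  rw [o13] at h3
  intro r hr hr6
  have h4 : r ≤ 6 := Nat.le_of_dvd (by norm_num) hr6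
  have h5 : r = 2 ∨ r = 3 := by
    interval_cases r
    · exact absurd hr (by norm_num)
    · exact absurd hr (by norm_num)
    · exact Or.inl rfl
    · exact Or.inr rfl
    · exact absurd hr (by norm_num)
    · exact absurd hr6 (by norm_num)
    · exact absurd hr (by norm_num)
  rcases h5 with rfl | rfl
  · left
    rw [o13]
    norm_num
  · right
    rw [o13]
    intro h6
    have h7 : Nat.card (centralizer ({rep 13} : Set Suz)) / 15 ≤ 30 / 15 := Nat.div_le_div_right h2
    have h8 : 1 ≤ Nat.card (centralizer ({rep 13} : Set Suz)) / 15 := (Nat.one_le_div_iff (by norm_num)).2 h3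
    have h9 := Nat.le_of_dvd h8 h6
    omega

/-! ### the lists -/

/-- goodness by orders and centralizers for `m = 6` -/
def M6 : Finset (Fin 37) := {1, 9, 13, 14, 16, 17, 21, 29, 34}
/-- odd orders -/
def O2 : Finset (Fin 37) := {4, 6, 18, 20, 36}
/-- orders prime to 3 -/
def O3 : Finset (Fin 37) := {0, 2, 5, 10, 11, 12, 22, 23, 25, 30, 31, 33, 35}
/-- goodness by traces, `m = 2` -/
def T2 : Finset (Fin 37) := {0, 3, 5, 7, 8, 11, 25, 26, 28, 32, 35}
/-- goodness by traces, `m = 3` -/
def T3 : Finset (Fin 37) := {3, 4, 7, 8, 20, 26, 28, 32, 36}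
/-- goodness by traces, `m = 6` -/
def T6 : Finset (Fin 37) := {0, 3, 4, 5, 7, 8, 11, 20, 25, 26, 28, 32, 35, 36}

theorem good_M6 {m : ℕ} (hm : m ∣ 6) : ∀ i ∈ M6, MGood m (rep i) := by
  have h6 : ∀ i ∈ M6, MGood 6 (rep i) := by
    intro i hi
    simp only [M6, Finset.mem_insert, Finset.mem_singleton] at hi
    rcases hi with rfl | rfl | rfl | rfl | rfl | rfl | rfl | rfl | rfl
    · exact good_of_dvd_m (order_dvd (rep_tab 1) d1) (by decide)
    · exact good_of_dvd_m (order_dvd (rep_tab 9) d9) (by decide)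
    · exact good13
    · exact good_of_dvd_m (order_dvd (rep_tab 14) d14) (by decide)
    · exact good16 6
    · exact good17 6
    · exact good21 6
    · exact good_of_dvd_m (order_dvd (rep_tab 29) d29) (by decide)
    · exact good_of_dvd_m (order_dvd (rep_tab 34) d34) (by decide)
  exact fun i hi r hr hrm => h6 i hi r hr (hrm.trans hm)

theorem good_O2 : ∀ i ∈ O2, MGood 2 (rep i) := by
  intro i hi
  simp only [O2, Finset.mem_insert, Finset.mem_singleton] at hi
  rcases hi with rfl | rfl | rfl | rfl | rfl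
  · exact good_of_dvd_m (order_dvd (rep_tab 4) e4) (by decide)
  · exact good_of_dvd_m (order_dvd (rep_tab 6) e6) (by decide)
  · exact good_of_dvd_m (order_dvd (rep_tab 18) e18) (by decide)
  · exact good_of_dvd_m (order_dvd (rep_tab 20) e20) (by decide)
  · exact good_of_dvd_m (order_dvd (rep_tab 36) e36) (by decide)

theorem good_O3 : ∀ i ∈ O3, MGood 3 (rep i) := by
  intro i hi
  simp only [O3, Finset.mem_insert, Finset.mem_singleton] at hi
  rcases hi with rfl | rfl | rfl | rfl | rfl | rfl | rfl | rfl | rfl | rfl | rfl | rfl | rfl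
  · exact good_of_dvd_m (order_dvd (rep_tab 0) e0) (by decide)
  · exact good_of_dvd_m (order_dvd (rep_tab 2) e2) (by decide)
  · exact good_of_dvd_m (order_dvd (rep_tab 5) e5) (by decide)
  · exact good_of_dvd_m (order_dvd (rep_tab 10) e10) (by decide)
  · exact good_of_dvd_m (order_dvd (rep_tab 11) e11) (by decide)
  · exact good_of_dvd_m (order_dvd (rep_tab 12) e12) (by decide)
  · exact good_of_dvd_m (order_dvd (rep_tab 22) e22) (by decide)
  · exact good_of_dvd_m (order_dvd (rep_tab 23) e23) (by decide)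
  · exact good_of_dvd_m (order_dvd (rep_tab 25) e25) (by decide)
  · exact good_of_dvd_m (order_dvd (rep_tab 30) e30) (by decide)
  · exact good_of_dvd_m (order_dvd (rep_tab 31) e31) (by decide)
  · exact good_of_dvd_m (order_dvd (rep_tab 33) e33) (by decide)
  · exact good_of_dvd_m (order_dvd (rep_tab 35) e35) (by decide)

section

variable {K : Type u} [Group K] {E : Type u} [Group E] [Finite E] {π : E →* K} {e : K ≃* Suz} {l : π.ker →* ℂˣ}

theorem le_of (hπ : Function.Surjective π) (hker : π.ker ≤ center E) (A : Finset (Fin 37))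
    (hA : ∀ i ∈ A, SGood π e l (rep i) ∨ MGood (Nat.card π.ker) (rep i)) :
    A.card + 3 ≤ Nat.card {χ : IrrCharacter E // Lies π.ker l (χ : E → ℂ)} := by
  have h1 : (A.disjSum (Finset.univ : Finset (Fin 3))).card = A.card + 3 := by
    rw [Finset.card_disjSum, Finset.card_univ, Fintype.card_fin]
  rw [← h1]
  refine le_of_finset (e := e) hπ hker _ fun a ha => ?_
  rcases a with i | j
  · rw [Finset.inl_mem_disjSum] at ha
    exact (hA i ha).elim id (sGood_of_mGood hπ hker)
  · exact sGood_of_mGood hπ hker (good_tw _ j)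

/-- **kernel of order 2** -/
theorem count_two (hπ : Function.Surjective π) (hker : π.ker ≤ center E) (h : Nat.card π.ker = 2)
    (hT : ∀ i ∈ T2, SGood π e l (rep i)) :
    28 ≤ Nat.card {χ : IrrCharacter E // Lies π.ker l (χ : E → ℂ)} := by
  refine le_trans ?_ (le_of (e := e) hπ hker (M6 ∪ O2 ∪ T2) fun i hi => ?_)
  · decide
  · rw [Finset.mem_union, Finset.mem_union] at hi
    rcases hi with (hi | hi) | hi
    · exact Or.inr (good_M6 (by rw [h]; norm_num) i hi)
    · exact Or.inr (by rw [h]; exact good_O2 i hi)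
    · exact Or.inl (hT i hi)

/-- **kernel of order 3** -/
theorem count_three (hπ : Function.Surjective π) (hker : π.ker ≤ center E) (h : Nat.card π.ker = 3)
    (hT : ∀ i ∈ T3, SGood π e l (rep i)) :
    34 ≤ Nat.card {χ : IrrCharacter E // Lies π.ker l (χ : E → ℂ)} := by
  refine le_trans ?_ (le_of (e := e) hπ hker (M6 ∪ O3 ∪ T3) fun i hi => ?_)
  · decide
  · rw [Finset.mem_union, Finset.mem_union] at hi
    rcases hi with (hi | hi) | hi
    · exact Or.inr (good_M6 (by rw [h]; norm_num) i hi)
    · exact Or.inr (by rw [h]; exact good_O3 i hi)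
    · exact Or.inl (hT i hi)

/-- **kernel of order 6** -/
theorem count_six (hπ : Function.Surjective π) (hker : π.ker ≤ center E) (h : Nat.card π.ker = 6)
    (hT : ∀ i ∈ T6, SGood π e l (rep i)) :
    26 ≤ Nat.card {χ : IrrCharacter E // Lies π.ker l (χ : E → ℂ)} := by
  refine le_trans ?_ (le_of (e := e) hπ hker (M6 ∪ T6) fun i hi => ?_)
  · decide
  · rw [Finset.mem_union] at hi
    rcases hi with hi | hi
    · exact Or.inr (good_M6 (by rw [h]) i hi)
    · exact Or.inl (hT i hi)

/-- the three counts from the traces -/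
theorem le_card_of (hπ : Function.Surjective π) (hker : π.ker ≤ center E) (hT : ∀ i ∈ T6, SGood π e l (rep i)) :
    (Nat.card π.ker = 2 → 28 ≤ Nat.card {χ : IrrCharacter E // Lies π.ker l (χ : E → ℂ)}) ∧
      (Nat.card π.ker = 3 → 34 ≤ Nat.card {χ : IrrCharacter E // Lies π.ker l (χ : E → ℂ)}) ∧
      (Nat.card π.ker = 6 → 26 ≤ Nat.card {χ : IrrCharacter E // Lies π.ker l (χ : E → ℂ)}) :=
  ⟨fun h => count_two hπ hker h fun i hi => hT i ((by decide : T2 ⊆ T6) hi),
    fun h => count_three hπ hker h fun i hi => hT i ((by decide : T3 ⊆ T6) hi),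
    fun h => count_six hπ hker h hT⟩

end

end Cfsg.Agent.H714.RIM.SuzCount
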