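import Cfsg.Agent.H714.RIM.SuzCount
import Cfsg.Agent.H759.RIM.SuzUp

/-!
# S4816: traces in the sixfold cover of `Suz` (helper714)

Elements of `6.Suz ≤ GL(12, 7)` with trace `≠ 0` do not commute up to a scalar `≠ 1` with any element; fourteen of them;
`le_card` : the numbers of characters over a faithful character of the kernel.
-/

set_option autoImplicit false
set_option maxRecDepth 1000000
set_option exponentiation.threshold 5000

namespace Cfsg.Agent.H714.RIM.SuzTr

open Cfsg Cfsg.Spor Subgroup Cfsg.Agent.H123.Cls Cfsg.Agent.H123.Cls.SuzDat Cfsg.Agent.Lib.BitNet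
open Cfsg.Agent.OddHalf.Table.SuzRep (ψ)
open Cfsg.Agent.SporadicRecognition.SuzOrder (el)
open Cfsg.Agent.Lib.PackMat (okG checkEq dg mat mat_def)
open Cfsg.Agent.H58.SuzRep (C12 Y q q_surj q_ker center_of_q mk prod_eq ok_W)
open Cfsg.Agent.H714.RIM.SuzCount Cfsg.Agent.H622.Over
open Cfsg.Agent.H759.RIM.SuzY (r q_r V coe_r)
open Cfsg.Agent.H759.RIM.SuzS (g)
open Cfsg.Agent.H759.RIM.SuzUp (exists_cov)

universe u

/-- the matrix of an element of the cover -/
abbrev mt (y : Y) : H58.SuzRep.M12 := ((y : H58.SuzRep.M12ˣ) : H58.SuzRep.M12)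

theorem mt_mul (x y : Y) : mt (x * y) = mt x * mt y := rfl

theorem exists_scal {c : Y} (h : q c = 1) : ∃ r : ZMod 7, mt c = r • (1 : H58.SuzRep.M12) := by
  obtain ⟨r, hr⟩ := Matrix.GeneralLinearGroup.mem_center_iff_val_mem_range_scalar.1 (center_of_q h)
  exact ⟨r, hr.symm.trans (by rw [Matrix.scalar_apply, Matrix.smul_one_eq_diagonal])⟩

instance fact7 : Fact (Nat.Prime 7) := ⟨by norm_num⟩

theorem scal_ne {c : Y} {r : ZMod 7} (h : mt c = r • (1 : H58.SuzRep.M12)) : r ≠ 0 := by
  rintro rfl
  rw [zero_smul] at h
  have h3 : mt c * mt c⁻¹ = 1 := by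
    rw [← mt_mul, mul_inv_cancel]; rfl
  rw [h, zero_mul] at h3
  have h4 := congrFun (congrFun h3 0) 0
  rw [Matrix.one_apply_eq, Matrix.zero_apply] at h4
  exact absurd h4 (by decide)

/-- the trace vanishes on all lifts or on none -/
theorem trace_ne {y y' : Y} (h : Matrix.trace (mt y) ≠ 0) (hq : q y' = q y) : Matrix.trace (mt y') ≠ 0 := by
  have h1 : q (y⁻¹ * y') = 1 := by rw [map_mul, map_inv, hq, inv_mul_cancel]
  obtain ⟨r, hr⟩ := exists_scal h1
  have h2 : mt y' = r • mt y := by
    have h3 : mt y' = mt y * mt (y⁻¹ * y') := by rw [← mt_mul, mul_inv_cancel_left]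
    rw [h3, hr, mul_smul_comm, mul_one]
  rw [h2, Matrix.trace_smul, smul_eq_mul]
  exact mul_ne_zero (scal_ne hr) h

/-- an element with trace `≠ 0` commutes with all elements that commute with it modulo scalars -/
theorem comm_eq_one {y v : Y} (h : Matrix.trace (mt y) ≠ 0) (hv : q (v⁻¹ * y⁻¹ * v * y) = 1) :
    v⁻¹ * y⁻¹ * v * y = 1 := by
  obtain ⟨r, hr⟩ := exists_scal hv
  have h1 : v * y * v⁻¹ = y * (v * (v⁻¹ * y⁻¹ * v * y) * v⁻¹) := by group
  have h2 : mt (v * (v⁻¹ * y⁻¹ * v * y) * v⁻¹) = r • (1 : H58.SuzRep.M12) := by
    rw [mt_mul, mt_mul, hr, mul_smul_comm, mul_one, smul_mul_assoc, ← mt_mul, mul_inv_cancel]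
    rfl
  have h3 : mt (v * y * v⁻¹) = r • mt y := by
    rw [h1, mt_mul, h2, mul_smul_comm, mul_one]
  have h4 : Matrix.trace (mt (v * y * v⁻¹)) = Matrix.trace (mt y) := by
    rw [mt_mul, Matrix.trace_mul_comm, ← mt_mul, inv_mul_cancel_left]
  rw [h3, Matrix.trace_smul, smul_eq_mul] at h4
  have h5 : r = 1 := mul_right_cancel₀ h (by rw [h4, one_mul])
  rw [h5, one_smul] at hr
  exact Subtype.ext (Units.ext hr)

section

variable {K : Type u} [Group K] {E : Type u} [Group E] [Finite E] {π : E →* K} {e : K ≃* Suz} {l : π.ker →* ℂˣ}
  {θ : Y →* E}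

/-- **goodness from the trace** -/
theorem sGood_of_trace (hθ : Function.Surjective θ) (hq : ∀ y, e (π (θ y)) = q y) {y : Y}
    (h : Matrix.trace (mt y) ≠ 0) : SGood π e l (q y) := by
  intro x hx u hu
  obtain ⟨y', rfl⟩ := hθ x
  obtain ⟨v, rfl⟩ := hθ u
  rw [hq] at hx
  have h1 := trace_ne h hx
  have h2 : q (v⁻¹ * y'⁻¹ * v * y') = 1 := by
    have h20 : θ (v⁻¹ * y'⁻¹ * v * y') = (θ v)⁻¹ * (θ y')⁻¹ * θ v * θ y' := by
      rw [map_mul, map_mul, map_mul, map_inv, map_inv]
    rw [← hq, h20, MonoidHom.mem_ker.1 hu, map_one]
  have h3 := congrArg θ (comm_eq_one h1 h2)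
  rw [map_mul, map_mul, map_mul, map_inv, map_inv, map_one] at h3
  have h4 : (⟨(θ v)⁻¹ * (θ y')⁻¹ * θ v * θ y', hu⟩ : π.ker) = 1 := Subtype.ext h3
  rw [h4, map_one]

end

theorem trace_mk (M : ℕ) : Matrix.trace (mk M) = ∑ j : Fin 12, (dg 10 M ((j : ℕ) + 12 * (j : ℕ)) : ZMod 7) := rfl

/-- the check for a representative -/
theorem of_chk {i : Fin 37} {w : List ℕ} {M : ℕ} (hw : ∀ x ∈ w, x < 7)
    (h1 : checkEq C12 (V w) [M] 0 12 = true)
    (h2 : allN (fun p => Nat.beq (evw 11 gens w p) (lk 11 (dat i).1 p)) 1782 = true)
    (h3 : okG C12 M = true ∧ Matrix.trace (mk M) ≠ 0) :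
    ∃ y : Y, q y = SuzCount.rep i ∧ Matrix.trace (mt y) ≠ 0 := by
  refine ⟨r w, ?_, ?_⟩
  · rw [q_r]
    refine eq_rep fun p => ?_
    rw [g, ev_tab w hw]
    exact Nat.eq_of_beq_eq_true ((allN_iff _ _).1 h2 p p.2)
  · have h4 := prod_eq (v := V w) (w := [M]) (ok_W _) (fun x hx => by
      rw [List.mem_singleton] at hx; rw [hx]; exact h3.1) h1
    rw [mt, coe_r, h4, List.map_cons, List.map_nil, List.prod_cons, List.prod_nil, mul_one]
    exact h3.2

/-- word -/
def l0 : List ℕ := [5, 6, 5, 6]
/-- packed matrix -/
def M0 : ℕ := 0x80200c0100404014000100001800008020180401001014000040000c000180300003018060000200c0200002010010180200402014000100000c000100100c04008010140000800018000040400c0201002014000040001800014050000501405000020140200002000000080000000008040000500805004040180100804014000080000c0000000008000000000805000040080500c060000600c03000020180200002000000080000000008050000500804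
theorem k0 : checkEq C12 (V l0) [M0] 0 12 = true := by decide +kernel
theorem t0 : allN (fun p => Nat.beq (evw 11 gens l0 p) (lk 11 p0 p)) 1782 = true := by decide +kernel
theorem n0 : okG C12 M0 = true ∧ Matrix.trace (mk M0) ≠ 0 := ⟨by decide +kernel, by
  rw [trace_mk]; decide +kernel⟩

/-- word -/
def l3 : List ℕ := [2, 3, 2, 1, 6, 5, 1, 2, 1, 5, 6, 1, 2, 3]
/-- packed matrix -/
def M3 : ℕ := 0x40501002000020080000c0001404000040000200c00000050080601000010050080400002008000140000c0100001010000180000005004030100000004000000140000805004050040000c0000c050040301802000010000600002000000180500005008050080000004000000180000006008030040500c01000000140000006008050100001400014050100301402000020000500c00018050100500c040000100005008030100400002004000140001402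
theorem k3 : checkEq C12 (V l3) [M3] 0 12 = true := by decide +kernel
theorem t3 : allN (fun p => Nat.beq (evw 11 gens l3 p) (lk 11 p3 p)) 1782 = true := by decide +kernel
theorem n3 : okG C12 M3 = true ∧ Matrix.trace (mk M3) ≠ 0 := ⟨by decide +kernel, by
  rw [trace_mk]; decide +kernel⟩

/-- word -/
def l4 : List ℕ := [2, 1, 6, 5, 3, 1, 2, 1, 3, 5, 6, 1]
/-- packed matrix -/
def M4 : ℕ := 0x80600c0600c0200c03014050140300c01014010000501405008060180501800004060040300c0301404014030140500805018060180000403004060180600c06004030040100005014030040501805018020180600c0300c06018060040200c0300403014050140000c010140301405010050180000805014050180501806000060040100c020180600c000040300c03014050100100c030140101405014040180200005018020000600c0300c010140501401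
theorem k4 : checkEq C12 (V l4) [M4] 0 12 = true := by decide +kernel
theorem t4 : allN (fun p => Nat.beq (evw 11 gens l4 p) (lk 11 p4 p)) 1782 = true := by decide +kernel
theorem n4 : okG C12 M4 = true ∧ Matrix.trace (mk M4) ≠ 0 := ⟨by decide +kernel, by
  rw [trace_mk]; decide +kernel⟩

/-- word -/
def l5 : List ℕ := [1, 3, 6, 5, 1, 4, 2, 1, 5, 6, 3, 1, 2, 4]
/-- packed matrix -/
def M5 : ℕ := 0x100600c0101406008060180500c000140000401014060180601805004060180101405018030100301006014030140600c0301406018060180201002008060100301402018060180500c060100600c030140601800008050040601803010050080300c03004060140000c0501806004000100501403008050140600c0400806018020180500c060040001806004050140501401018050180301005018030040000c020140300c050180200c00014050100101805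
theorem k5 : checkEq C12 (V l5) [M5] 0 12 = true := by decide +kernel
theorem t5 : allN (fun p => Nat.beq (evw 11 gens l5 p) (lk 11 p5 p)) 1782 = true := by decide +kernel
theorem n5 : okG C12 M5 = true ∧ Matrix.trace (mk M5) ≠ 0 := ⟨by decide +kernel, by
  rw [trace_mk]; decide +kernel⟩

/-- word -/
def l7 : List ℕ := [1, 4, 3, 6, 2, 4, 1, 2, 6, 3]
/-- packed matrix -/
def M7 : ℕ := 0x5004030180300403004050180500c060140500c0401004014060000601805004000180300c0100c040180501403018000140201806008030140100c060140401005008050140600c060180500c030180300c03010020080501805004030080300c0300c05000040180000c030080300c01004050180500c020080500c02014050140600c060000500c030080100c0300c0401805010030180601406018010180301404014000180601406008060180101401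
theorem k7 : checkEq C12 (V l7) [M7] 0 12 = true := by decide +kernel
theorem t7 : allN (fun p => Nat.beq (evw 11 gens l7 p) (lk 11 p7 p)) 1782 = true := by decide +kernel
theorem n7 : okG C12 M7 = true ∧ Matrix.trace (mk M7) ≠ 0 := ⟨by decide +kernel, by
  rw [trace_mk]; decide +kernel⟩

/-- word -/
def l8 : List ℕ := [5, 4, 6, 2, 1, 2, 3, 2, 6, 4, 5, 3, 2, 1]
/-- packed matrix -/
def M8 : ℕ := 0x1402008000000300c050000400c03014040040000005018030000401403004000000500c040040101400004040000300c0400800004000100300000008000000601801004010140001002018020040000006014030000100c030000600c02010000000001005000020000500c02008010000000406000000140600c0400400000000080600000010000000600c010100100c00008040000300c0100400000000040500c00000030180200400000050100600000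
theorem k8 : checkEq C12 (V l8) [M8] 0 12 = true := by decide +kernel
theorem t8 : allN (fun p => Nat.beq (evw 11 gens l8 p) (lk 11 p8 p)) 1782 = true := by decide +kernel
theorem n8 : okG C12 M8 = true ∧ Matrix.trace (mk M8) ≠ 0 := ⟨by decide +kernel, by
  rw [trace_mk]; decide +kernel⟩

/-- word -/
def l11 : List ℕ := [4, 6, 5, 1, 2, 3, 5, 6, 4, 3, 2, 1]
/-- packed matrix -/
def M11 : ℕ := 0x14020140101005018030140600c0000c0200c0600c010140100c050180300c040040600c030100600c050000300801018050180600c05008000140600803018040180000405018030140600c0500c0100c0301406010050080300c050040200c030140200c000180300c0500c0600c03010020040501800008060080301405018030140600c040180301805004060100501801014060040500c06004030140200c0500003014060100301000018030100600c05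
theorem k11 : checkEq C12 (V l11) [M11] 0 12 = true := by decide +kernel
theorem t11 : allN (fun p => Nat.beq (evw 11 gens l11 p) (lk 11 p11 p)) 1782 = true := by decide +kernel
theorem n11 : okG C12 M11 = true ∧ Matrix.trace (mk M11) ≠ 0 := ⟨by decide +kernel, by
  rw [trace_mk]; decide +kernel⟩

/-- word -/
def l20 : List ℕ := [6, 5, 3, 2, 1, 3, 5, 6, 1, 2]
/-- packed matrix -/
def M20 : ℕ := 0xc02018000000001003008010100201000008030140600004004000000000400008050140500002000000000200c02014000000000805008020080400c0100c0000000008060100201002000030000401001014000180600c0300003000040080200c000180501405010050040300c0500002000000000000800004060140500004000060000000006000040040400c0000c0601403008000080600c06000020000001400004000040500c06008040000000000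
theorem k20 : checkEq C12 (V l20) [M20] 0 12 = true := by decide +kernel
theorem t20 : allN (fun p => Nat.beq (evw 11 gens l20 p) (lk 11 p20 p)) 1782 = true := by decide +kernel
theorem n20 : okG C12 M20 = true ∧ Matrix.trace (mk M20) ≠ 0 := ⟨by decide +kernel, by
  rw [trace_mk]; decide +kernel⟩

/-- word -/
def l25 : List ℕ := [3, 2, 1, 4, 0, 1, 2, 3, 0, 4]
/-- packed matrix -/
def M25 : ℕ := 0x4010180300c02008040040200c0201401010060140200804004030080200c02014010100601001008040100301004008020040600402010050140500802014010100400c0100c060100400401010060080300804014020140201004008020140501402010060040101001008020040100403010010040101006008020040100404010010040100802018050100401801008040100600c0400802014010040201801004050180400802004010140200c0101401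
theorem k25 : checkEq C12 (V l25) [M25] 0 12 = true := by decide +kernel
theorem t25 : allN (fun p => Nat.beq (evw 11 gens l25 p) (lk 11 p25 p)) 1782 = true := by decide +kernel
theorem n25 : okG C12 M25 = true ∧ Matrix.trace (mk M25) ≠ 0 := ⟨by decide +kernel, by
  rw [trace_mk]; decide +kernel⟩

/-- word -/
def l26 : List ℕ := [3, 1, 6, 5, 1, 2, 1, 3, 2, 1, 5, 6]
/-- packed matrix -/
def M26 : ℕ := 0x40001006000000000000c0000c05014010180001002004010000100c00014040180000404008040000400c000040001806000000000000c0000805000050000400c0300c0601003000040180100c000040400801000010140000006000020180500c050100300001000050000201806018060080300002000030000200c0300c050080600002000050000200c06014030100600001018000080300000000000140000406000060000400c06014050040300002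
theorem k26 : checkEq C12 (V l26) [M26] 0 12 = true := by decide +kernel
theorem t26 : allN (fun p => Nat.beq (evw 11 gens l26 p) (lk 11 p26 p)) 1782 = true := by decide +kernel
theorem n26 : okG C12 M26 = true ∧ Matrix.trace (mk M26) ≠ 0 := ⟨by decide +kernel, by
  rw [trace_mk]; decide +kernel⟩

/-- word -/
def l28 : List ℕ := [4, 2, 3, 2, 4, 3]
/-- packed matrix -/
def M28 : ℕ := 0x1000018060180000c040080000c0501404000000000200006018010080001404000000000101805014040000000006004040080500800000050040200006010010040300800000060040401801000000100100005018010000000c0201400000020000501804000000180400000000020000500c02000050100000c06014000180100400014050000301002010030100000005004020140200004000040000500c0100000008000140501800014010080001405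
theorem k28 : checkEq C12 (V l28) [M28] 0 12 = true := by decide +kernel
theorem t28 : allN (fun p => Nat.beq (evw 11 gens l28 p) (lk 11 p28 p)) 1782 = true := by decide +kernel
theorem n28 : okG C12 M28 = true ∧ Matrix.trace (mk M28) ≠ 0 := ⟨by decide +kernel, by
  rw [trace_mk]; decide +kernel⟩

/-- word -/
def l32 : List ℕ := [5, 3, 1, 6, 1, 2, 6, 1, 3, 5, 2, 1]
/-- packed matrix -/
def M32 : ℕ := 0xc0400c0601004010040040400c010100101002004010040100c01010040080400c01010030100600406008010100500c0300405004010080101002010010100201405004060080101802014040080501804010040040600801004050140400c0200c02010020040401403004040140200803010020040401402004040080300c02010050040400804008010100401004008040080500806008010100400c040040600c01008040080501004018060040401401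
theorem k32 : checkEq C12 (V l32) [M32] 0 12 = true := by decide +kernel
theorem t32 : allN (fun p => Nat.beq (evw 11 gens l32 p) (lk 11 p32 p)) 1782 = true := by decide +kernel
theorem n32 : okG C12 M32 = true ∧ Matrix.trace (mk M32) ≠ 0 := ⟨by decide +kernel, by
  rw [trace_mk]; decide +kernel⟩

/-- word -/
def l35 : List ℕ := [3, 2, 3, 2]
/-- packed matrix -/
def M35 : ℕ := 0x403018030140101406008030180100c0101801008030140601403018010000300003010030140601403018030040301801014030140601404008030180601406010020040500c060100600c0100803014010140601404018030140500c0501805000030180400c00018060100600c0600c0200c0601002018060100200c060040501006014060140500c0001800018010180500c0500c0001803014030140601003000030100400c0501805008040180500c05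
theorem k35 : checkEq C12 (V l35) [M35] 0 12 = true := by decide +kernel
theorem t35 : allN (fun p => Nat.beq (evw 11 gens l35 p) (lk 11 p35 p)) 1782 = true := by decide +kernel
theorem n35 : okG C12 M35 = true ∧ Matrix.trace (mk M35) ≠ 0 := ⟨by decide +kernel, by
  rw [trace_mk]; decide +kernel⟩

/-- word -/
def l36 : List ℕ := [3, 4, 3, 4]
/-- packed matrix -/
def M36 : ℕ := 0x18020180400802004040180401801010060080200401010020080300c0600c04018010100400c010040500402008040040601804008010140500402010010080301801018020080200c04010010080200402010030080200804004020180400c0201804010040100500804004010100600802004010040200c04004050100400801018010040300806014050100400801004060040200c060040101804008010040101802004030100400802014040180401006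
theorem k36 : checkEq C12 (V l36) [M36] 0 12 = true := by decide +kernel
theorem t36 : allN (fun p => Nat.beq (evw 11 gens l36 p) (lk 11 p36 p)) 1782 = true := by decide +kernel
theorem n36 : okG C12 M36 = true ∧ Matrix.trace (mk M36) ≠ 0 := ⟨by decide +kernel, by
  rw [trace_mk]; decide +kernel⟩

/-- **the fourteen traces** -/
theorem traces : ∀ i ∈ T6, ∃ y : Y, q y = SuzCount.rep i ∧ Matrix.trace (mt y) ≠ 0 := by
  intro i hi
  simp only [T6, Finset.mem_insert, Finset.mem_singleton] at hi
  rcases hi with rfl | rfl | rfl | rfl | rfl | rfl | rfl | rfl | rfl | rfl | rfl | rfl | rfl | rfl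
  · exact of_chk (i := 0) (w := l0) (M := M0) (by decide) k0 t0 n0
  · exact of_chk (i := 3) (w := l3) (M := M3) (by decide) k3 t3 n3
  · exact of_chk (i := 4) (w := l4) (M := M4) (by decide) k4 t4 n4
  · exact of_chk (i := 5) (w := l5) (M := M5) (by decide) k5 t5 n5
  · exact of_chk (i := 7) (w := l7) (M := M7) (by decide) k7 t7 n7
  · exact of_chk (i := 8) (w := l8) (M := M8) (by decide) k8 t8 n8
  · exact of_chk (i := 11) (w := l11) (M := M11) (by decide) k11 t11 n11
  · exact of_chk (i := 20) (w := l20) (M := M20) (by decide) k20 t20 n20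
  · exact of_chk (i := 25) (w := l25) (M := M25) (by decide) k25 t25 n25
  · exact of_chk (i := 26) (w := l26) (M := M26) (by decide) k26 t26 n26
  · exact of_chk (i := 28) (w := l28) (M := M28) (by decide) k28 t28 n28
  · exact of_chk (i := 32) (w := l32) (M := M32) (by decide) k32 t32 n32
  · exact of_chk (i := 35) (w := l35) (M := M35) (by decide) k35 t35 n35
  · exact of_chk (i := 36) (w := l36) (M := M36) (by decide) k36 t36 n36

/-- **the number of characters over a faithful character of the kernel** -/
theorem le_card {K : Type u} [Group K] [Finite K] (h : Spor.IsoSuz K) {E : Type u} [Group E] [Finite E] (π : E →* K)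
    (hπ : Function.Surjective π) (hker : π.ker ≤ center E) (hperf : commutator E = ⊤) (l : π.ker →* ℂˣ) :
    (Nat.card π.ker = 2 → 28 ≤ Nat.card {χ : IrrCharacter E // Lies π.ker l (χ : E → ℂ)}) ∧
      (Nat.card π.ker = 3 → 34 ≤ Nat.card {χ : IrrCharacter E // Lies π.ker l (χ : E → ℂ)}) ∧
      (Nat.card π.ker = 6 → 26 ≤ Nat.card {χ : IrrCharacter E // Lies π.ker l (χ : E → ℂ)}) := by
  obtain ⟨e⟩ := h
  obtain ⟨θ, hθ, hq⟩ := exists_cov e hπ hker hperf
  refine le_card_of (e := e) hπ hker fun i hi => ?_
  obtain ⟨y, hy, ht⟩ := traces i hi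
  rw [← hy]
  exact sGood_of_trace hθ hq ht

end Cfsg.Agent.H714.RIM.SuzTr
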